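import Mathlib.RingTheory.Smooth.Locus
import Mathlib.RingTheory.Smooth.Field
import Mathlib.RingTheory.FinitePresentation
import Mathlib.RingTheory.Localization.FractionRing

/-! Smooth models of finitely generated fields. -/

set_option autoImplicit false

universe u v

namespace Groth.Agent.SmoothModel

open Algebra

theorem isFractionRing_of_closure {k : Type v} {K : Type u} [CommRing k] [Field K] [Algebra k K]
    (A : Subalgebra k K) (S : Set K) (hS : Subfield.closure S = ⊤) (hSA : S ⊆ A) : IsFractionRing A K := by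
  have key : ∀ x : K, ∃ a b : A, (b : K) ≠ 0 ∧ x * b = a := by
    intro x
    have hx : x ∈ Subfield.closure S := hS ▸ trivial
    induction hx using Subfield.closure_induction with
    | mem y hy => exact ⟨⟨y, hSA hy⟩, 1, one_ne_zero, mul_one y⟩
    | one => exact ⟨1, 1, one_ne_zero, mul_one 1⟩
    | add y z _ _ hy hz =>
      obtain ⟨a, b, hb, he⟩ := hy
      obtain ⟨c, d, hd, hf⟩ := hz
      refine ⟨a * d + c * b, b * d, mul_ne_zero hb hd, ?_⟩
      push_cast
      rw [← he, ← hf]; ring
    | neg y _ hy =>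
      obtain ⟨a, b, hb, he⟩ := hy
      exact ⟨-a, b, hb, by push_cast; rw [← he]; ring⟩
    | inv y _ hy =>
      obtain ⟨a, b, hb, he⟩ := hy
      by_cases hy0 : y = 0
      · exact ⟨0, 1, one_ne_zero, by simp [hy0]⟩
      · refine ⟨b, a, ?_, ?_⟩
        · rw [← he]; exact mul_ne_zero hy0 hb
        · rw [← he]; field_simp
    | mul y z _ _ hy hz =>
      obtain ⟨a, b, hb, he⟩ := hy
      obtain ⟨c, d, hd, hf⟩ := hz
      refine ⟨a * c, b * d, mul_ne_zero hb hd, ?_⟩
      push_cast
      rw [← he, ← hf]; ring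
  refine IsFractionRing.of_field A K fun z => ?_
  obtain ⟨a, b, hb, he⟩ := key z
  exact ⟨a, b, (eq_div_iff hb).2 he⟩

theorem exists_smooth_model (k : Type v) (K : Type u) [CommRing k] [IsNoetherianRing k] [Field K]
    [Algebra k K] [Algebra.FormallySmooth k K] (s : Finset K) (S : Set K) (hS : Subfield.closure S = ⊤)
    (hsS : S ⊆ Algebra.adjoin k (s : Set K)) :
    ∃ A : Subalgebra k K, Algebra.FiniteType k A ∧ Algebra.Smooth k A ∧ IsFractionRing A K := by
  let A₀ := Algebra.adjoin k (s : Set K)
  haveI : Algebra.FiniteType k A₀ := (Subalgebra.fg_iff_finiteType A₀).1 ⟨s, rfl⟩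
  haveI : Algebra.FinitePresentation k A₀ := Algebra.FinitePresentation.of_finiteType.1 inferInstance
  haveI : IsFractionRing A₀ K := isFractionRing_of_closure A₀ S hS hsS
  haveI hp : (⊥ : Ideal A₀).IsPrime := Ideal.isPrime_bot
  haveI : IsLocalization.AtPrime K (⊥ : Ideal A₀) := by
    have h : (⊥ : Ideal A₀).primeCompl = nonZeroDivisors A₀ := by
      ext x; simp [Ideal.primeCompl]
    show IsLocalization (⊥ : Ideal A₀).primeCompl K
    rw [h]
    infer_instance
  haveI : Algebra.IsSmoothAt k (⊥ : Ideal A₀) :=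
    Algebra.FormallySmooth.of_equiv
      ((IsLocalization.algEquiv (⊥ : Ideal A₀).primeCompl K (Localization.AtPrime (⊥ : Ideal A₀))).restrictScalars k)
  obtain ⟨g, hg, hsm⟩ := Algebra.IsSmoothAt.exists_notMem_smooth (R := k) (⊥ : Ideal A₀)
  have hg0 : (g : K) ≠ 0 := fun h => hg (by simpa [Ideal.mem_bot] using Subtype.ext h)
  let φ : Localization.Away g →ₐ[k] K := IsLocalization.liftAlgHom (M := Submonoid.powers g) (f := A₀.val)
    (fun y => by
      obtain ⟨n, hn⟩ := y.2
      rw [show (y : A₀) = g ^ n from hn.symm, map_pow]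
      exact (IsUnit.mk0 _ hg0).pow n)
  have hφ : Function.Injective φ := by
    refine (injective_iff_map_eq_zero φ).2 fun z hz => ?_
    obtain ⟨⟨a, m⟩, hm⟩ := IsLocalization.surj (Submonoid.powers g) z
    have ha : φ (algebraMap A₀ (Localization.Away g) a) = a := IsLocalization.lift_eq _ _
    have : a = 0 := by
      apply Subtype.ext
      rw [← ha, ← hm, map_mul, hz, zero_mul]
      rfl
    rw [this, map_zero] at hm
    exact (IsLocalization.map_units (Localization.Away g) m).mul_left_eq_zero.1 hm
  let e := AlgEquiv.ofInjective φ hφ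
  haveI := hsm
  refine ⟨φ.range, Algebra.FiniteType.equiv inferInstance e, Algebra.Smooth.of_equiv e, ?_⟩
  refine isFractionRing_of_closure φ.range S hS fun x hx => ?_
  exact ⟨algebraMap A₀ (Localization.Away g) ⟨x, hsS hx⟩, IsLocalization.lift_eq _ _⟩

end Groth.Agent.SmoothModel
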